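import Mathlib
import Cfsg.Agent.Lib.Components.Basic

/-!
# Groups with conjugate cyclic 2-subgroups of equal order have at most one component,
given the Odd Order statement.
-/

set_option autoImplicit false
set_option linter.unusedSectionVars false

namespace Cfsg.Agent.Lib.AfterFT.Layer

open Cfsg Subgroup
open Cfsg.Agent.Lib.Components.Basic
open scoped commutatorElement

universe u

variable {G : Type u} [Group G] [Finite G]

theorem comm_of {K L : Subgroup G} (h : ⁅K, L⁆ = ⊥) {a b : G} (ha : a ∈ K) (hb : b ∈ L) :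
    a * b = b * a := by
  have : ⁅a, b⁆ ∈ ⁅K, L⁆ := Subgroup.commutator_mem_commutator ha hb
  rw [h, Subgroup.mem_bot, commutatorElement_eq_one_iff_mul_comm] at this
  exact this

/-- A quasisimple group has a non-central 2-element, given the Odd Order statement. -/
theorem exists_two_elem (ft : ∀ (X : Type u) [Group X] [Finite X], Odd (Nat.card X) → Group.IsSolvable X)
    {K : Subgroup G} (hK : IsQuasisimple K) :
    ∃ x : G, x ∈ K ∧ (∃ k : ℕ, orderOf x = 2 ^ k) ∧ ∃ u ∈ K, x * u ≠ u * x := by
  classical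
  have heven : 2 ∣ Nat.card (K ⧸ center K) := by
    by_contra h2
    have hodd : Odd (Nat.card (K ⧸ center K)) :=
      Nat.not_even_iff_odd.mp (fun he => h2 he.two_dvd)
    have hs : Group.IsSolvable (K ⧸ center K) := ft _ hodd
    apply quasisimple_not_solvable hK
    have hker : (QuotientGroup.mk' (center K)).ker ≤ (center K).subtype.range := by
      rw [QuotientGroup.ker_mk', Subgroup.range_subtype]
    haveI : Group.IsSolvable (center K) := Group.isSolvable_of_comm (fun a b =>
      Subtype.ext (Subgroup.mem_center_iff.mp a.2 b).symm)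
    exact Group.isSolvable_of_ker_le_range (center K).subtype (QuotientGroup.mk' (center K)) hker
  obtain ⟨q, hq⟩ := exists_prime_orderOf_dvd_card' (p := 2) heven
  obtain ⟨x₀, rfl⟩ := QuotientGroup.mk'_surjective (center K) q
  have hn : orderOf x₀ ≠ 0 := (orderOf_pos x₀).ne'
  obtain ⟨a, m, hm, hnm⟩ := Nat.exists_eq_two_pow_mul_odd hn
  let y : K := x₀ ^ m
  have hq2 : (QuotientGroup.mk' (center K) x₀) ^ 2 = 1 := by
    rw [← hq]; exact pow_orderOf_eq_one _
  have hq1 : QuotientGroup.mk' (center K) x₀ ≠ 1 := by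
    intro h; rw [h, orderOf_one] at hq; omega
  have hy : QuotientGroup.mk' (center K) y = QuotientGroup.mk' (center K) x₀ := by
    obtain ⟨r, hr⟩ := hm
    simp only [y, map_pow]
    rw [hr, pow_succ, pow_mul, hq2, one_pow, one_mul]
  have hyc : y ∉ center K := by
    intro h
    apply hq1
    rw [← hy]
    simpa [QuotientGroup.mk'_apply, QuotientGroup.eq_one_iff] using h
  have hyo : y ^ (2 ^ a) = 1 := by
    simp only [y]
    rw [← pow_mul, mul_comm, ← hnm]
    exact pow_orderOf_eq_one _
  have hyd : orderOf (y : G) ∣ 2 ^ a := by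
    apply orderOf_dvd_of_pow_eq_one
    have := congrArg (Subtype.val) hyo
    simpa using this
  obtain ⟨k, -, hk⟩ := (Nat.dvd_prime_pow Nat.prime_two).1 hyd
  refine ⟨(y : G), y.2, ⟨k, hk⟩, ?_⟩
  rw [Subgroup.mem_center_iff] at hyc
  push Not at hyc
  obtain ⟨u, hu⟩ := hyc
  refine ⟨u, u.2, fun h => hu (Subtype.ext ?_)⟩
  simpa using h.symm

/-- The key step: `K₁` carries a noncentral 2-element `x`, `K₂` a noncentral 2-element `y` of no
larger order. -/
theorem false_of_two_elems
    (hP : ∀ A B : Subgroup G, IsCyclic ↥A → IsCyclic ↥B → IsPGroup 2 ↥A → Nat.card ↥A = Nat.card ↥B →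
      ∃ g : G, B = A.map (MulAut.conj g).toMonoidHom)
    {K₁ K₂ : Subgroup G} (h₁ : IsComponent K₁) (hcomm : ⁅K₁, K₂⁆ = ⊥)
    {x y : G} (hx : x ∈ K₁) (hy : y ∈ K₂) {a b : ℕ} (hxo : orderOf x = 2 ^ a) (hyo : orderOf y = 2 ^ b)
    (hab : b ≤ a) {u v : G} (hu : u ∈ K₁) (hv : v ∈ K₂) (hxu : x * u ≠ u * x) (hyv : y * v ≠ v * y) :
    False := by
  classical
  have hxy : Commute x y := comm_of hcomm hx hy
  -- the order of `xy`
  have hpow : (x * y) ^ (2 ^ a) = 1 := by
    rw [hxy.mul_pow]
    have h1 : x ^ (2 ^ a) = 1 := by rw [← hxo]; exact pow_orderOf_eq_one x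
    have h2 : y ^ (2 ^ a) = 1 := by
      have : 2 ^ b ∣ 2 ^ a := pow_dvd_pow 2 hab
      rw [← hyo] at this
      exact orderOf_dvd_iff_pow_eq_one.mp this
    rw [h1, h2, one_mul]
  obtain ⟨c, hca, hc⟩ := (Nat.dvd_prime_pow Nat.prime_two).1 (orderOf_dvd_of_pow_eq_one hpow)
  have hdvd : 2 ^ c ∣ orderOf x := by rw [hxo]; exact pow_dvd_pow 2 hca
  have hoA : orderOf (x ^ (orderOf x / 2 ^ c)) = 2 ^ c := by
    rw [orderOf_pow_orderOf_div (orderOf_pos x).ne' hdvd]
  let A : Subgroup G := zpowers (x ^ (orderOf x / 2 ^ c))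
  let B : Subgroup G := zpowers (x * y)
  have hcardA : Nat.card A = 2 ^ c := by
    simp only [A]; rw [Nat.card_zpowers, hoA]
  have hcardB : Nat.card B = 2 ^ c := by
    simp only [B]; rw [Nat.card_zpowers, hc]
  have hAp : IsPGroup 2 A := IsPGroup.of_card hcardA
  obtain ⟨g, hg⟩ := hP A B inferInstance inferInstance hAp (hcardA.trans hcardB.symm)
  have hAle : A ≤ K₁ := by
    simp only [A]
    rw [Subgroup.zpowers_le]
    exact K₁.pow_mem hx _
  have hxyK : x * y ∈ K₁.map (MulAut.conj g).toMonoidHom := by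
    have h1 : x * y ∈ B := Subgroup.mem_zpowers _
    rw [hg] at h1
    exact Subgroup.map_mono hAle h1
  have h₃ : IsComponent (K₁.map (MulAut.conj g).toMonoidHom) := isComponent_conj g h₁
  rcases component_eq_or_commutator_eq_bot h₁ h₃ with h | h
  · -- `xy ∈ K₁`, so `y ∈ K₁`, so `y` commutes with `K₂`
    rw [← h] at hxyK
    have hyK : y ∈ K₁ := by
      have := K₁.mul_mem (K₁.inv_mem hx) hxyK
      simpa using this
    exact hyv (comm_of hcomm hyK hv)
  · -- `xy` commutes with `K₁`, `y` too, so `x` does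
    have h1 : u * (x * y) = (x * y) * u := comm_of h hu hxyK
    have h2 : u * y = y * u := comm_of hcomm hu hy
    apply hxu
    have h3 : u * x * y = x * u * y := by
      calc u * x * y = u * (x * y) := by group
        _ = x * y * u := h1
        _ = x * (y * u) := by group
        _ = x * (u * y) := by rw [h2]
        _ = x * u * y := by group
    exact (mul_right_cancel h3).symm

/-- Any two components coincide. -/
theorem component_unique
    (ft : ∀ (X : Type u) [Group X] [Finite X], Odd (Nat.card X) → Group.IsSolvable X)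
    (hP : ∀ A B : Subgroup G, IsCyclic ↥A → IsCyclic ↥B → IsPGroup 2 ↥A → Nat.card ↥A = Nat.card ↥B →
      ∃ g : G, B = A.map (MulAut.conj g).toMonoidHom)
    {K₁ K₂ : Subgroup G} (h₁ : IsComponent K₁) (h₂ : IsComponent K₂) : K₁ = K₂ := by
  rcases component_eq_or_commutator_eq_bot h₁ h₂ with h | hcomm
  · exact h
  exfalso
  obtain ⟨x, hx, ⟨a, hxo⟩, u, hu, hxu⟩ := exists_two_elem ft h₁.2
  obtain ⟨y, hy, ⟨b, hyo⟩, v, hv, hyv⟩ := exists_two_elem ft h₂.2
  rcases le_total b a with hab | hab
  · exact false_of_two_elems hP h₁ hcomm hx hy hxo hyo hab hu hv hxu hyv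
  · have hcomm' : ⁅K₂, K₁⁆ = ⊥ := by rw [Subgroup.commutator_comm]; exact hcomm
    exact false_of_two_elems hP h₂ hcomm' hy hx hyo hxo hab hv hu hyv hxu

/-- Conditional form of S3915. -/
theorem main
    (ft : ∀ (X : Type u) [Group X] [Finite X], Odd (Nat.card X) → Group.IsSolvable X)
    (hP : ∀ (p : ℕ), p.Prime → ∀ A B : Subgroup G, IsCyclic ↥A → IsCyclic ↥B → IsPGroup p ↥A →
      Nat.card ↥A = Nat.card ↥B → ∃ g : G, B = A.map (MulAut.conj g).toMonoidHom)
    (hE : Cfsg.layer G ≠ ⊥) :
    IsSimpleGroup (↥(Cfsg.layer G) ⧸ Subgroup.center ↥(Cfsg.layer G)) ∧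
      ¬ IsMulCommutative (↥(Cfsg.layer G) ⧸ Subgroup.center ↥(Cfsg.layer G)) := by
  have hex : ∃ K : Subgroup G, IsComponent K := by
    by_contra hno
    push Not at hno
    apply hE
    unfold Cfsg.layer
    rw [sSup_eq_bot]
    intro K hK
    exact absurd hK (hno K)
  obtain ⟨K, hK⟩ := hex
  have hL : Cfsg.layer G = K := by
    apply le_antisymm
    · apply sSup_le
      intro L hL
      exact (component_unique ft (hP 2 Nat.prime_two) hL hK).le
    · exact le_layer_of_isComponent hK
  rw [hL]
  refine ⟨hK.2.2, ?_⟩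
  intro hc
  have hcomm : commutator K ≤ center K := by
    have : commutator K ≤ (QuotientGroup.mk' (center K)).ker := by
      rw [_root_.commutator_def, Subgroup.commutator_le]
      intro a _ b _
      have h1 := hc.is_comm.comm (QuotientGroup.mk' (center K) a) (QuotientGroup.mk' (center K) b)
      rw [MonoidHom.mem_ker, map_commutatorElement, commutatorElement_eq_one_iff_mul_comm]
      exact h1
    rwa [QuotientGroup.ker_mk'] at this
  have htop : center K = ⊤ := by
    apply top_le_iff.mp
    rw [← quasisimple_perfect hK.2]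
    exact hcomm
  exact quasisimple_center_ne_top hK.2 htop

end Cfsg.Agent.Lib.AfterFT.Layer
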