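import Mathlib
import Cfsg.Agent.S0205
import Cfsg.Prelude.Def_OddOrder

/-!
# No minimal simple group of odd order, from the Odd Order Theorem
-/

set_option autoImplicit false

namespace Cfsg.Agent.Lib.AfterFT.NoMin

open Cfsg

theorem false_of_min {G : Type*} [Group G] [Finite G] (hG : Cfsg.IsMinSimpleOddOrder G) : False := by
  have hs : Group.IsSolvable G := Cfsg.Agent.S0205.result hG.1
  obtain ⟨_, hsimple, hnc, _⟩ := hG
  have := hsimple
  exact hnc ⟨⟨IsSimpleGroup.comm_iff_isSolvable.mpr hs⟩⟩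

end Cfsg.Agent.Lib.AfterFT.NoMin
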