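import Mathlib
import Cfsg.Agent.S0071
import Cfsg.Agent.S3861
import Cfsg.Agent.S3863

/-!
# Real class sizes with a common 2-part and Sylow-real elements central (S4193),
given the Odd Order statement.
-/

set_option autoImplicit false
set_option linter.unusedSectionVars false

namespace Cfsg.Agent.Lib.AfterFT.RealTwo

open Cfsg Subgroup
open scoped Pointwise

universe u

variable {G : Type u} [Group G] [Finite G]

/-- Transport of the hypothesis on `S` to every Sylow 2-subgroup. -/
theorem central_of_inverted {S : Sylow 2 G}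
    (hS : ∀ s : ↥(S : Subgroup G), IsConj s s⁻¹ → s ∈ center ↥(S : Subgroup G)) (T : Sylow 2 G)
    {t w : G} (ht : t ∈ (T : Subgroup G)) (hw : w ∈ (T : Subgroup G)) (hinv : w * t * w⁻¹ = t⁻¹) :
    ∀ v ∈ (T : Subgroup G), v * t = t * v := by
  obtain ⟨c, hc⟩ := MulAction.exists_smul_eq G S T
  have hmem : ∀ y : G, y ∈ (T : Subgroup G) → c⁻¹ * y * c ∈ (S : Subgroup G) := by
    intro y hy
    rw [← hc, Sylow.coe_subgroup_smul, Subgroup.mem_smul_pointwise_iff_exists] at hy
    obtain ⟨y', hy', rfl⟩ := hy
    have : c⁻¹ * (MulAut.conj c • y') * c = y' := by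
      simp [MulAut.smul_def, mul_assoc]
    rw [this]; exact hy'
  intro v hv
  have h1 := hS ⟨c⁻¹ * t * c, hmem t ht⟩ (isConj_iff.2 ⟨⟨c⁻¹ * w * c, hmem w hw⟩, by
    apply Subtype.ext
    simp only [Subgroup.coe_mul, InvMemClass.coe_inv]
    have : c⁻¹ * w * c * (c⁻¹ * t * c) * (c⁻¹ * w * c)⁻¹ = c⁻¹ * (w * t * w⁻¹) * c := by group
    rw [this, hinv]; group⟩)
  have h2 := (Subgroup.mem_center_iff.mp h1) ⟨c⁻¹ * v * c, hmem v hv⟩
  have h3 : c⁻¹ * v * c * (c⁻¹ * t * c) = c⁻¹ * t * c * (c⁻¹ * v * c) := congrArg Subtype.val h2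
  have h4 : c⁻¹ * (v * t) * c = c⁻¹ * (t * v) * c := by
    calc c⁻¹ * (v * t) * c = c⁻¹ * v * c * (c⁻¹ * t * c) := by group
      _ = c⁻¹ * t * c * (c⁻¹ * v * c) := h3
      _ = c⁻¹ * (t * v) * c := by group
  exact mul_left_cancel (mul_right_cancel h4)

/-- The key step: odd-order elements normalizing a 2-subgroup centralize it when all involutions
are central. -/
theorem fixes {S : Sylow 2 G}
    (hS : ∀ s : ↥(S : Subgroup G), IsConj s s⁻¹ → s ∈ center ↥(S : Subgroup G))
    (hcent : ∀ t : G, t * t = 1 → t ∈ center G) {g : G} (hg : Odd (orderOf g))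
    {Q : Subgroup G} (hQT : Q ≤ (S : Subgroup G)) (hQg : ∀ u ∈ Q, g * u * g⁻¹ ∈ Q) :
    ∀ (k : ℕ) (u : G), u ∈ Q → orderOf u = 2 ^ k → g * u * g⁻¹ = u := by
  intro k
  induction k with
  | zero =>
    intro u _ hu
    have : u = 1 := by simpa using hu
    rw [this]; group
  | succ k ih =>
    intro u hu ho
    set v := g * u * g⁻¹ with hv
    have hvQ : v ∈ Q := hQg u hu
    have hu2 : orderOf (u ^ 2) = 2 ^ k := by
      rw [orderOf_pow_of_dvd (by norm_num) (by rw [ho]; exact dvd_pow_self 2 (by omega)), ho,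
        pow_succ, Nat.mul_div_cancel _ (by norm_num)]
    have h1 := ih (u ^ 2) (Q.pow_mem hu 2) hu2
    have hvv : v * v = u * u := by
      have : g * u ^ 2 * g⁻¹ = v * v := by rw [hv, sq]; group
      rw [← this, h1, sq]
    set t := u⁻¹ * v with ht
    have htQ : t ∈ Q := Q.mul_mem (Q.inv_mem hu) hvQ
    have hinv : u⁻¹ * t * (u⁻¹)⁻¹ = t⁻¹ := by
      have e : u⁻¹ * u⁻¹ = v⁻¹ * v⁻¹ := by
        rw [← mul_inv_rev, ← mul_inv_rev, hvv]
      calc u⁻¹ * t * (u⁻¹)⁻¹ = (u⁻¹ * u⁻¹) * v * u := by rw [ht]; group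
        _ = (v⁻¹ * v⁻¹) * v * u := by rw [e]
        _ = v⁻¹ * u := by group
        _ = t⁻¹ := by rw [ht]; group
    have hc := central_of_inverted hS S (hQT htQ) (hQT (Q.inv_mem hu)) hinv u (hQT hu)
    have htt : t * t = 1 := by
      have : t⁻¹ = t := by
        rw [← hinv, inv_inv, mul_assoc, ← hc, ← mul_assoc, inv_mul_cancel, one_mul]
      calc t * t = t * t⁻¹ := by rw [this]
        _ = 1 := mul_inv_cancel t
    have htc : ∀ y : G, y * t = t * y := fun y => Subgroup.mem_center_iff.mp (hcent t htt) y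
    have hvt : v = u * t := by rw [ht]; group
    have hj : ∀ j : ℕ, g ^ j * u * (g ^ j)⁻¹ = u * t ^ j := by
      intro j
      induction j with
      | zero => simp
      | succ j ihj =>
        have e1 : g ^ (j + 1) * u * (g ^ (j + 1))⁻¹ = g * (g ^ j * u * (g ^ j)⁻¹) * g⁻¹ := by
          rw [pow_succ']; group
        rw [e1, ihj]
        have e2 : g * (u * t ^ j) * g⁻¹ = (g * u * g⁻¹) * (g * t ^ j * g⁻¹) := by group
        have e3 : g * t ^ j * g⁻¹ = t ^ j := by
          have : g * t ^ j = t ^ j * g := (Commute.pow_right (show Commute g t from htc g) j).eq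
          rw [this]; group
        rw [e2, e3, ← hv, hvt, pow_succ', mul_assoc]
    obtain ⟨m, hm⟩ := hg
    have h2 := hj (orderOf g)
    rw [pow_orderOf_eq_one] at h2
    have h3 : t ^ (orderOf g) = t := by
      rw [hm, pow_succ, pow_mul, sq, htt, one_pow, one_mul]
    rw [h3] at h2
    have h4 : t = 1 := by
      have : u = u * t := by simpa using h2
      simpa using this.symm
    rw [hvt, h4, mul_one]

theorem le_closure_two (S : Sylow 2 G) :
    (S : Subgroup G) ≤ closure {g : G | ∃ k : ℕ, orderOf g = 2 ^ k} := by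
  intro s hs
  apply Subgroup.subset_closure
  obtain ⟨k, hk⟩ := (IsPGroup.iff_orderOf.mp S.isPGroup') ⟨s, hs⟩
  exact ⟨k, by simpa using hk⟩

/-- Conclusion when `S` has a normal complement. -/
theorem finish_of_complement
    (ft : ∀ (X : Type u) [Group X] [Finite X], Odd (Nat.card X) → Group.IsSolvable X)
    (S : Sylow 2 G) {N : Subgroup G} (hN : N.Normal) (hc : N.IsComplement' (S : Subgroup G)) :
    Group.IsSolvable G ∧ HasNormalPComplement 2 ↥(closure {g : G | ∃ k : ℕ, orderOf g = 2 ^ k}) := by
  classical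
  constructor
  · have hodd : Odd (Nat.card N) := by
      have h1 : (S : Subgroup G).index = Nat.card N := hc.index_eq_card
      have h2 := S.not_dvd_index
      rw [h1] at h2
      exact Nat.not_even_iff_odd.mp (fun he => h2 he.two_dvd)
    haveI hNs : Group.IsSolvable N := ft N hodd
    have hq : Nat.card (G ⧸ N) = Nat.card S := by
      have h1 : N.index = Nat.card (S : Subgroup G) := hc.symm.index_eq_card
      rw [← h1]; rfl
    have hqp : IsPGroup 2 (G ⧸ N) := by
      obtain ⟨n, hn⟩ := IsPGroup.iff_card.mp S.isPGroup'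
      exact IsPGroup.of_card (hq.trans hn)
    haveI : Group.IsNilpotent (G ⧸ N) := hqp.isNilpotent
    haveI hQs : Group.IsSolvable (G ⧸ N) := inferInstance
    have hker : (QuotientGroup.mk' N).ker ≤ N.subtype.range := by
      rw [QuotientGroup.ker_mk', Subgroup.range_subtype]
    exact Group.isSolvable_of_ker_le_range N.subtype (QuotientGroup.mk' N) hker
  · set K := closure {g : G | ∃ k : ℕ, orderOf g = 2 ^ k} with hK
    have hSK : (S : Subgroup G) ≤ K := le_closure_two S
    refine ⟨S.subtype hSK, N.subgroupOf K, inferInstance, ?_⟩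
    rw [Sylow.coe_subtype]
    apply Subgroup.isComplement'_of_disjoint_and_mul_eq_univ
    · rw [Subgroup.disjoint_def]
      intro x hx1 hx2
      rw [Subgroup.mem_subgroupOf] at hx1 hx2
      have := (Subgroup.disjoint_def.mp hc.disjoint) hx1 hx2
      exact Subtype.ext this
    · rw [Set.eq_univ_iff_forall]
      intro k
      obtain ⟨⟨n, s⟩, hns, -⟩ := (Subgroup.isComplement_iff_existsUnique.mp hc) (k : G)
      have hs : (s : G) ∈ K := hSK s.2
      have hn : (n : G) ∈ K := by
        have : (n : G) = (k : G) * (s : G)⁻¹ := by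
          rw [← hns]; simp
        rw [this]
        exact K.mul_mem k.2 (K.inv_mem hs)
      refine Set.mem_mul.mpr ⟨⟨n, hn⟩, ?_, ⟨s, hs⟩, ?_, ?_⟩
      · simp [Subgroup.mem_subgroupOf]
      · simp [Subgroup.mem_subgroupOf]
      · apply Subtype.ext
        simpa using hns

/-- Conclusion when `S` is normal. -/
theorem finish_of_normal
    (ft : ∀ (X : Type u) [Group X] [Finite X], Odd (Nat.card X) → Group.IsSolvable X)
    (S : Sylow 2 G) (hn : (S : Subgroup G).Normal) :
    Group.IsSolvable G ∧ HasNormalPComplement 2 ↥(closure {g : G | ∃ k : ℕ, orderOf g = 2 ^ k}) := by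
  classical
  constructor
  · have hodd : Odd (Nat.card (G ⧸ (S : Subgroup G))) :=
      Nat.not_even_iff_odd.mp (fun he => S.not_dvd_index he.two_dvd)
    haveI hQs : Group.IsSolvable (G ⧸ (S : Subgroup G)) := ft _ hodd
    haveI : Group.IsNilpotent (S : Subgroup G) := S.isPGroup'.isNilpotent
    haveI hNs : Group.IsSolvable (S : Subgroup G) := inferInstance
    have hker : (QuotientGroup.mk' (S : Subgroup G)).ker ≤ (S : Subgroup G).subtype.range := by
      rw [QuotientGroup.ker_mk', Subgroup.range_subtype]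
    exact Group.isSolvable_of_ker_le_range (S : Subgroup G).subtype
      (QuotientGroup.mk' (S : Subgroup G)) hker
  · set K := closure {g : G | ∃ k : ℕ, orderOf g = 2 ^ k} with hK
    have hKS : K ≤ (S : Subgroup G) := by
      rw [hK, Subgroup.closure_le]
      rintro x ⟨k, hk⟩
      have hp : IsPGroup 2 (zpowers x) := by
        apply IsPGroup.of_card (n := k)
        rw [Nat.card_zpowers, hk]
      obtain ⟨T, hT⟩ := hp.exists_le_sylow
      haveI := hn
      have hTS : T = S := by
        obtain ⟨c, hc⟩ := MulAction.exists_smul_eq G S T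
        rw [← hc]
        exact Sylow.smul_eq_of_normal
      rw [hTS] at hT
      exact hT (Subgroup.mem_zpowers x)
    have hKp : IsPGroup 2 K := by
      intro y
      obtain ⟨k, hk⟩ := S.isPGroup' ⟨(y : G), hKS y.2⟩
      refine ⟨k, Subtype.ext ?_⟩
      simpa using congrArg Subtype.val hk
    have htop : IsPGroup 2 (⊤ : Subgroup K) := hKp.to_subgroup ⊤
    refine ⟨htop.toSylow (by simp), ⊥, inferInstance, ?_⟩
    rw [IsPGroup.toSylow_coe]
    exact Subgroup.isComplement'_bot_top

/-- Conditional form of S4193. -/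
theorem main
    (ft : ∀ (X : Type u) [Group X] [Finite X], Odd (Nat.card X) → Group.IsSolvable X)
    (a : ℕ)
    (h : ∀ x : G, IsConj x x⁻¹ → x ∉ center G →
      ((centralizer ({x} : Set G)).index).factorization 2 = a)
    (S : Sylow 2 G)
    (hS : ∀ s : ↥(S : Subgroup G), IsConj s s⁻¹ → s ∈ center ↥(S : Subgroup G)) :
    Group.IsSolvable G ∧ HasNormalPComplement 2 ↥(closure {g : G | ∃ k : ℕ, orderOf g = 2 ^ k}) := by
  classical
  haveI : Fact (Nat.Prime 2) := ⟨Nat.prime_two⟩
  by_cases hcent : ∀ t : G, t * t = 1 → t ∈ center G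
  · obtain ⟨N, hN, hc⟩ := (Cfsg.Agent.S0071.result S).mpr (by
      intro Q hQ g hg hcop
      have hgodd : Odd (orderOf g) := Nat.Coprime.odd_of_right hcop
      have hQg : ∀ u ∈ Q, g * u * g⁻¹ ∈ Q := fun u hu =>
        (Subgroup.mem_normalizer_iff.mp hg u).1 hu
      rw [Subgroup.mem_centralizer_iff]
      intro u hu
      obtain ⟨k, hk⟩ := (IsPGroup.iff_orderOf.mp S.isPGroup') ⟨u, hQ hu⟩
      have h1 := fixes hS hcent hgodd hQ hQg k u hu (by simpa using hk)
      rw [mul_inv_eq_iff_eq_mul] at h1
      exact h1.symm)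
    exact finish_of_complement ft S hN hc
  · push Not at hcent
    obtain ⟨t, htt, htc⟩ := hcent
    have hinv : t⁻¹ = t := inv_eq_of_mul_eq_one_left htt
    have htr : IsConj t t⁻¹ := by rw [hinv]
    have ht1 : t ≠ 1 := by
      rintro rfl
      exact htc (Subgroup.one_mem _)
    have hto : orderOf t = 2 := by
      apply orderOf_eq_prime (by rw [sq]; exact htt) ht1
    -- a = 0
    have ha : a = 0 := by
      have hp : IsPGroup 2 (zpowers t) := by
        apply IsPGroup.of_card (n := 1)
        rw [Nat.card_zpowers, hto, pow_one]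
      obtain ⟨T, hT⟩ := hp.exists_le_sylow
      have htT : t ∈ (T : Subgroup G) := hT (Subgroup.mem_zpowers t)
      have hcomm := central_of_inverted hS T htT (T : Subgroup G).one_mem (by simp [hinv])
      have hle : (T : Subgroup G) ≤ centralizer ({t} : Set G) := by
        intro v hv
        rw [Subgroup.mem_centralizer_iff]
        intro y hy
        rw [Set.mem_singleton_iff] at hy
        rw [hy]
        exact (hcomm v hv).symm
      have hnd : ¬ 2 ∣ (centralizer ({t} : Set G)).index := fun hd =>
        T.not_dvd_index (hd.trans (Subgroup.index_dvd_of_le hle))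
      rw [← h t htr htc]
      exact Nat.factorization_eq_zero_of_not_dvd hnd
    -- all real elements square to one
    have hreal : ∀ x : G, IsConj x x⁻¹ → x ^ 2 = 1 := by
      intro x hx
      refine (Cfsg.Agent.S3863.result x hx).2.1 ?_
      by_cases hxc : x ∈ center G
      · have : centralizer ({x} : Set G) = ⊤ := by
          rw [eq_top_iff]
          intro v _
          rw [Subgroup.mem_centralizer_iff]
          intro y hy
          rw [Set.mem_singleton_iff] at hy
          rw [hy]
          exact (Subgroup.mem_center_iff.mp hxc v).symm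
        rw [this, Subgroup.index_top]
        exact odd_one
      · have h0 := h x hx hxc
        rw [ha] at h0
        have hne : (centralizer ({x} : Set G)).index ≠ 0 := Subgroup.index_ne_zero_of_finite
        have hnd : ¬ 2 ∣ (centralizer ({x} : Set G)).index := by
          intro hd
          have := (Nat.Prime.dvd_iff_one_le_factorization Nat.prime_two hne).mp hd
          omega
        exact Nat.not_even_iff_odd.mp (fun he => hnd he.two_dvd)
    have hnormal : (S : Subgroup G).Normal := by
      refine (Cfsg.Agent.S3861.result S).mp ?_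
      intro x hx1 hxo hxr
      have h2 := hreal x hxr
      have hd : orderOf x ∣ 2 := orderOf_dvd_of_pow_eq_one h2
      rcases (Nat.dvd_prime Nat.prime_two).mp hd with h3 | h3
      · exact hx1 (orderOf_eq_one_iff.mp h3)
      · rw [h3] at hxo
        exact (by decide : ¬ Odd 2) hxo
    exact finish_of_normal ft S hnormal

end Cfsg.Agent.Lib.AfterFT.RealTwo
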